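/-
The odd-dimensional orthogonal group as a group of isometries, and the members of the classes for it.
-/
import Mathlib
import Cfsg.Prelude.Def_GeometricClasses
import Cfsg.Agent.Aschbacher.Formed.Centre
import Cfsg.Agent.Aschbacher.Formed.Descent
import Cfsg.Agent.Aschbacher.Formed.Quad
import Cfsg.Agent.Aschbacher.Lists.Main
import Cfsg.Agent.Lib.Classical.OrthForms

set_option autoImplicit false
set_option linter.style.haveILetI false

namespace Cfsg.Agent.Aschbacher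

open Matrix
open Cfsg.Geo

/-- The coordinates of the standard odd-dimensional quadratic form. -/
abbrev OIdx (m : ℕ) : Type := Unit ⊕ (Fin m ⊕ Fin m)

variable {F : Type*} [Field F] {m : ℕ}

lemma card_oIdx (m : ℕ) : Fintype.card (OIdx m) = 2 * m + 1 := by
  simp [OIdx, Fintype.card_sum]; ring

/-- The dimension of a decomposed space. -/
lemma card_eq_of_decomposition {ι : Type} [Fintype ι] {t k : ℕ} {D : Fin t → Submodule F (ι → F)}
    (hD : IsMDecomposition k D) : Fintype.card ι = t * k := by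
  classical
  let B := (DirectSum.isInternal_submodule_of_iSupIndep_of_iSup_eq_top hD.indep hD.iSup_eq_top).collectedBasis
    fun i => Module.finBasisOfFinrankEq F (D i) (hD.finrank_eq i)
  have h := Module.finrank_eq_card_basis B
  rw [Module.finrank_fintype_fun_eq_card, Fintype.card_sigma] at h
  simpa using h

lemma quadOdd_bilinear (m : ℕ) : IsBilinearForm (QuadraticMap.polar (Cfsg.quadFormOdd m F)) := by
  rw [← Classical.OrthForms.oddQ_eq]
  exact
    { add_left := QuadraticMap.polar_add_left _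
      smul_left := fun c x v => by rw [QuadraticMap.polar_smul_left, smul_eq_mul]
      add_right := QuadraticMap.polar_add_right _
      smul_right := fun c v x => by rw [QuadraticMap.polar_smul_right, smul_eq_mul] }

/-- The Gram matrix of the polar form. -/
def orGram (m : ℕ) (F : Type*) [Field F] : Matrix (OIdx m) (OIdx m) F :=
  gramMatrix (QuadraticMap.polar (Cfsg.quadFormOdd m F))

lemma orGram_spec (m : ℕ) :
    QuadraticMap.polar (Cfsg.quadFormOdd m F) = sesqForm (RingHom.id F) (orGram m F) := by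
  obtain ⟨S, hS⟩ := exists_sesqForm_of_bilinear (quadOdd_bilinear (F := F) m)
  have : orGram m F = S := by
    ext a b
    rw [orGram, gramMatrix, hS, sesqForm_single]
  rw [this, hS]

lemma isUnit_orGram (h2 : (2 : F) ≠ 0) [Finite F] (m : ℕ) : IsUnit (orGram m F).det := by
  refine isUnit_det_of_nondegenerate (RingHom.id F) ?_
  rw [← orGram_spec, ← Classical.OrthForms.oddQ_eq]
  intro v hv
  have hnd := (Classical.OrthForms.oddQ_nondeg (F := F) h2 m).1
  have h : ∃ x, QuadraticMap.polar (Classical.OrthForms.oddQ F m) v x ≠ 0 := by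
    by_contra hall
    push Not at hall
    exact hv (hnd v hall)
  obtain ⟨x, hx⟩ := h
  exact ⟨⟨x, by rwa [QuadraticMap.polar_comm]⟩, ⟨x, hx⟩⟩

/-- The polar form of the standard quadratic form as form data. -/
noncomputable def orData (h2 : (2 : F) ≠ 0) [Finite F] (m : ℕ) : FormData (OIdx m) F where
  τ := RingEquiv.refl F
  T := orGram m F
  ε := 1
  invol _ := rfl
  isUnit := isUnit_orGram h2 m
  refl := by
    rw [show (orGram m F).map (RingEquiv.refl F) = orGram m F from Matrix.map_id _, one_smul]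
    ext a b
    rw [Matrix.transpose_apply, orGram, gramMatrix, gramMatrix, QuadraticMap.polar_comm]

section

variable [Finite F] (h2 : (2 : F) ≠ 0)

lemma orData_τ : (orData h2 m).τ = RingEquiv.refl F := rfl

lemma orData_form : (orData h2 m).form = QuadraticMap.polar (Cfsg.quadFormOdd m F) := by
  rw [orGram_spec]; rfl

lemma orData_swap (u v : OIdx m → F) : (orData h2 m).form v u = (orData h2 m).form u v := by
  rw [orData_form]; exact QuadraticMap.polar_comm _ _ _

lemma orData_self (v : OIdx m → F) : (orData h2 m).form v v = 2 * Cfsg.quadFormOdd m F v := by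
  rw [orData_form, ← Classical.OrthForms.oddQ_eq, QuadraticMap.polar_self, two_smul, two_mul]

lemma quad_smul (c : F) (v : OIdx m → F) :
    Cfsg.quadFormOdd m F (c • v) = c ^ 2 * Cfsg.quadFormOdd m F v := by
  rw [← Classical.OrthForms.oddQ_eq, QuadraticMap.map_smul, smul_eq_mul, sq]

lemma mem_oIso {g : GL (OIdx m) F} :
    g ∈ Cfsg.isometryGroup F (Cfsg.quadFormOdd m F) ↔
      ∀ v, Cfsg.quadFormOdd m F ((g : Matrix _ _ F) *ᵥ v) = Cfsg.quadFormOdd m F v :=
  Forms.QuadStd.mem_isometry_iff _ g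

lemma form_of_mem_oIso {g : GL (OIdx m) F} (hg : g ∈ Cfsg.isometryGroup F (Cfsg.quadFormOdd m F))
    (u v : OIdx m → F) :
    (orData h2 m).form ((g : Matrix _ _ F) *ᵥ u) ((g : Matrix _ _ F) *ᵥ v) = (orData h2 m).form u v := by
  simp only [orData_form, QuadraticMap.polar, ← Matrix.mulVec_add, mem_oIso.1 hg]

lemma oIso_le_sim : Cfsg.isometryGroup F (Cfsg.quadFormOdd m F) ≤ (orData h2 m).sim := fun g hg =>
  ⟨1, fun u v => by rw [Units.val_one, one_mul]; exact form_of_mem_oIso h2 hg u v⟩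

lemma scalars_le_or_sim : scalars (OIdx m) F ≤ (orData h2 m).sim := by
  intro g hg
  obtain ⟨c, hc⟩ := (Cfsg.Geo.mem_scalars_iff g).1 hg
  refine ⟨c * c, fun u v => ?_⟩
  rw [hc, smul_mulVec', smul_mulVec', FormData.form_smul_left, FormData.form_smul_right, orData_τ,
    Units.val_mul, mul_assoc]
  rfl

include h2 in
lemma quad_eq_half (v : OIdx m → F) :
    Cfsg.quadFormOdd m F v = (2 : F)⁻¹ * (orData h2 m).form v v := by
  rw [orData_self, ← mul_assoc, inv_mul_cancel₀ h2, one_mul]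

end

variable [Fintype F]

/-- The structures whose stabilisers, cut with the isometry group, are the members of the classes. -/
def IsOrMember (m : ℕ) (F : Type*) [Field F] [Fintype F] (M : Subgroup (GL (OIdx m) F)) : Prop :=
  let Q := Cfsg.quadFormOdd m F
  let f := QuadraticMap.polar Q
  (∃ W : Submodule F (OIdx m → F), W ≠ ⊥ ∧ IsTotallySingularQuad Q W ∧ M = subspaceStabilizer W) ∨
  (∃ W : Submodule F (OIdx m → F), W ≠ ⊥ ∧ W ≠ ⊤ ∧ IsNondegenerateOn f W ∧ M = subspaceStabilizer W) ∨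
  (∃ (t k : ℕ) (D : Fin t → Submodule F (OIdx m → F)), 1 < k ∧ IsOrthogonalMDecomposition Q k D ∧
      M = decompositionStabilizer D) ∨
  (∃ (t : ℕ) (D : Fin t → Submodule F (OIdx m → F)), (Fintype.card F).Prime ∧
      IsOrthogonalMDecomposition Q 1 D ∧ M = decompositionStabilizer D) ∨
  (∃ (r : ℕ) (K : Subalgebra F (Matrix (OIdx m) (OIdx m) F)), r.Prime ∧ 2 * m + 1 ≠ r ∧
      IsFieldSubalgebra r K ∧ IsSelfAdjointFor f K ∧ M = subalgebraNormalizer K) ∨
  (∃ (n₁ n₂ : ℕ) (e : OIdx m ≃ Fin n₁ × Fin n₂) (P : GL (OIdx m) F)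
      (f₁ : (Fin n₁ → F) → (Fin n₁ → F) → F) (f₂ : (Fin n₂ → F) → (Fin n₂ → F) → F),
      3 ≤ n₁ ∧ n₁ < n₂ ∧ IsSymmetricForm f₁ ∧ IsSymmetricForm f₂ ∧ IsTensorFormStructure id f f₁ f₂ e P ∧
      M = tensorProductSubgroup n₁ n₂ e P) ∨
  (∃ (F₀ : Subfield F) (r : ℕ) (P : GL (OIdx m) F), r.Prime ∧ Fintype.card F = Nat.card F₀ ^ r ∧
      IsQuadFormRationalStructure Q F₀ P ∧ M = subfieldSubgroup F₀ P) ∨
  (∃ (k t : ℕ) (e : OIdx m ≃ (Fin t → Fin k)) (P : GL (OIdx m) F) (f₁ : (Fin k → F) → (Fin k → F) → F),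
      3 ≤ k ∧ 2 ≤ t ∧ ¬ (Fintype.card F = 3 ∧ k = 3) ∧ IsSymmetricForm f₁ ∧
      IsTensorPowerFormStructure id f f₁ e P ∧ M = tensorWreathSubgroup k t e P)

lemma IsOrMember.inOrthogonalOddClass {M : Subgroup (GL (OIdx m) F)} (h : IsOrMember m F M) :
    InOrthogonalOddClass m F (M ⊓ Cfsg.isometryGroup F (Cfsg.quadFormOdd m F)) := by
  unfold IsOrMember at h
  unfold InOrthogonalOddClass
  rcases h with ⟨W, h1, h2, rfl⟩ | ⟨W, h1, h2, h3, rfl⟩ | ⟨t, k, D, h1, h2, rfl⟩ | ⟨t, D, h1, h2, rfl⟩ |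
    ⟨r, K, h1, h2, h3, h4, rfl⟩ | ⟨n₁, n₂, e, P, f₁, f₂, h1, h2, h3, h4, h5, rfl⟩ |
    ⟨F₀, r, P, h1, h2, h3, rfl⟩ | ⟨k, t, e, P, f₁, h1, h2, h3, h4, h5, rfl⟩
  · exact Or.inl ⟨W, h1, h2, rfl⟩
  · exact Or.inr (Or.inl ⟨W, h1, h2, h3, rfl⟩)
  · exact Or.inr (Or.inr (Or.inl ⟨t, k, D, h1, h2, rfl⟩))
  · exact Or.inr (Or.inr (Or.inr (Or.inl ⟨t, D, h1, h2, rfl⟩)))
  · exact Or.inr (Or.inr (Or.inr (Or.inr (Or.inl ⟨r, K, h1, h2, h3, h4, rfl⟩))))
  · exact Or.inr (Or.inr (Or.inr (Or.inr (Or.inr (Or.inl ⟨n₁, n₂, e, P, f₁, f₂, h1, h2, h3, h4, h5, rfl⟩)))))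
  · exact Or.inr (Or.inr (Or.inr (Or.inr (Or.inr (Or.inr (Or.inl ⟨F₀, r, P, h1, h2, h3, rfl⟩))))))
  · exact Or.inr (Or.inr (Or.inr (Or.inr (Or.inr (Or.inr (Or.inr ⟨k, t, e, P, f₁, h1, h2, h3, h4, h5, rfl⟩))))))

/-- `H` is contained in one of the structures. -/
def InOrClass (H : Subgroup (GL (OIdx m) F)) : Prop :=
  ∃ M : Subgroup (GL (OIdx m) F), IsOrMember m F M ∧ H ≤ M

variable {H : Subgroup (GL (OIdx m) F)} (h2 : (2 : F) ≠ 0)

include h2 in
lemma inOrClass_of_reducible (hH : H ≤ Cfsg.isometryGroup F (Cfsg.quadFormOdd m F)) (hred : ¬ Irred H) :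
    InOrClass (m := m) H := by
  rcases (orData h2 m).reducible_cases (hH.trans (oIso_le_sim h2)) hred with
    ⟨W, h0, hts, hle⟩ | ⟨W, h0, hnd, hlt, hle⟩ | ⟨k, E, hk, hE, hle⟩
  · refine ⟨_, Or.inl ⟨W, h0, fun w hw => ?_, rfl⟩, hle⟩
    rw [quad_eq_half h2, hts w hw w hw, mul_zero]
  · refine ⟨_, Or.inr (Or.inl ⟨W, h0, ?_, orData_form h2 ▸ hnd, rfl⟩), hle⟩
    rintro rfl
    rw [finrank_top, Module.finrank_fintype_fun_eq_card] at hlt
    omega
  · rw [card_oIdx] at hk
    omega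

/-! ### Subfield groups -/

omit [Fintype F] in
/-- A matrix which in the coordinates `P` has entries in the subfield lies in the subfield group. -/
lemma mem_subfieldSubgroup_of_mul_eq {ι : Type} [Fintype ι] [DecidableEq ι] {F₀ : Subfield F}
    {P g : GL ι F} (M : Matrix ι ι F) (hM : ∀ i j, M i j ∈ F₀)
    (h : (g : Matrix ι ι F) * (P : Matrix ι ι F) = (P : Matrix ι ι F) * M) :
    g ∈ subfieldSubgroup F₀ P := by
  let M₀ : Matrix ι ι F₀ := Matrix.of fun i j => ⟨M i j, hM i j⟩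
  have hmap : M₀.map F₀.subtype = M := by ext i j; rfl
  have hMdet : M.det ≠ 0 := fun e => by
    have h1 := congrArg Matrix.det h
    rw [Matrix.det_mul, Matrix.det_mul, e, mul_zero] at h1
    exact mul_ne_zero (Matrix.GeneralLinearGroup.det g).ne_zero (Matrix.GeneralLinearGroup.det P).ne_zero h1
  have hdet : M₀.det ≠ 0 := fun e => hMdet (by
    rw [← hmap, ← RingHom.mapMatrix_apply, ← RingHom.map_det, e, map_zero])
  refine Subgroup.mem_map.2 ⟨Matrix.GeneralLinearGroup.map F₀.subtype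
    (Matrix.GeneralLinearGroup.mkOfDetNeZero M₀ hdet), Subgroup.mem_sup_left ⟨_, rfl⟩, Units.ext ?_⟩
  show (P : Matrix ι ι F) * M₀.map F₀.subtype * ((P⁻¹ : GL ι F) : Matrix ι ι F) = g
  rw [hmap, ← h, mul_assoc, Units.mul_inv, mul_one]

omit [Fintype F] in
lemma subfieldSubgroup_scalar {ι : Type} [Fintype ι] [DecidableEq ι] {F₀ : Subfield F} (P : GL ι F)
    {z : GL ι F} (hz : z ∈ scalars ι F) : subfieldSubgroup F₀ (P * z) = subfieldSubgroup F₀ P := by
  have e : (MulAut.conj (P * z)).toMonoidHom = (MulAut.conj P).toMonoidHom := by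
    ext1 x
    show P * z * x * (P * z)⁻¹ = P * x * P⁻¹
    rw [mul_assoc P z x, ← scalars_comm hz x]
    group
  rw [subfieldSubgroup, subfieldSubgroup, e]

include h2 in
/-- In odd dimension a form-rational structure can be scaled to carry the quadratic form. -/
lemma exists_quadRational {F₀ : Subfield F} {P : GL (OIdx m) F} {ζ : F} (hζ : ζ ≠ 0)
    (hrat : IsFormRationalStructure (QuadraticMap.polar (Cfsg.quadFormOdd m F)) F₀ ζ P) :
    ∃ P' : GL (OIdx m) F, IsQuadFormRationalStructure (Cfsg.quadFormOdd m F) F₀ P' ∧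
      subfieldSubgroup F₀ P' = subfieldSubgroup F₀ P := by
  set D := orData h2 m with hD
  have hTF : ∀ i j, orGram m F i j ∈ F₀ := by
    have hQ : ∀ v : OIdx m → F, (∀ i, v i ∈ F₀) → Cfsg.quadFormOdd m F v ∈ F₀ := fun v hv =>
      add_mem (pow_mem (hv _) 2) (sum_mem fun i _ => mul_mem (hv _) (hv _))
    have hs : ∀ a b : OIdx m, (Pi.single a (1 : F) : OIdx m → F) b ∈ F₀ := fun a b => by
      rw [Pi.single_apply]; split_ifs
      · exact one_mem _
      · exact zero_mem _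
    intro i j
    show Cfsg.quadFormOdd m F (Pi.single i 1 + Pi.single j 1) - Cfsg.quadFormOdd m F (Pi.single i 1) -
      Cfsg.quadFormOdd m F (Pi.single j 1) ∈ F₀
    exact sub_mem (sub_mem (hQ _ fun l => add_mem (hs i l) (hs j l)) (hQ _ (hs i))) (hQ _ (hs j))
  have hdetF : ∀ M : Matrix (OIdx m) (OIdx m) F, (∀ i j, M i j ∈ F₀) → M.det ∈ F₀ := fun M hM => by
    rw [Matrix.det_apply']
    exact sum_mem fun σ _ => mul_mem (intCast_mem F₀ _) (prod_mem fun i _ => hM _ _)
  set Pm : Matrix (OIdx m) (OIdx m) F := (P : Matrix (OIdx m) (OIdx m) F) with hPm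
  have hG : ∀ i j, (ζ • (Pmᵀ * orGram m F * Pm)) i j ∈ F₀ := fun i j => by
    have hs : ∀ a b : OIdx m, (Pi.single a (1 : F) : OIdx m → F) b ∈ F₀ := fun a b => by
      rw [Pi.single_apply]; split_ifs
      · exact one_mem _
      · exact zero_mem _
    have e := hrat _ _ (hs i) (hs j)
    rw [orGram_spec, sesqForm_mulVec, sesqForm_single] at e
    rw [Matrix.smul_apply, smul_eq_mul]
    rwa [show Pm.map (RingHom.id F) = Pm from Matrix.map_id _] at e
  have hdetG := hdetF _ hG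
  rw [Matrix.det_smul, Matrix.det_mul, Matrix.det_mul, Matrix.det_transpose, card_oIdx] at hdetG
  have hPd : Pm.det ≠ 0 := (Matrix.GeneralLinearGroup.det P).ne_zero
  have hTd : (orGram m F).det ≠ 0 := (isUnit_orGram h2 m).ne_zero
  set e' : F := ζ ^ (2 * m + 1) * (Pm.det * (orGram m F).det * Pm.det) / (orGram m F).det with he'
  have he'F : e' ∈ F₀ := div_mem hdetG (hdetF _ hTF)
  have he'0 : e' ≠ 0 := div_ne_zero (mul_ne_zero (pow_ne_zero _ hζ) (mul_ne_zero (mul_ne_zero hPd hTd) hPd)) hTd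
  set b : F := (Pm.det * ζ ^ m)⁻¹ with hb
  have hb0 : b ≠ 0 := inv_ne_zero (mul_ne_zero hPd (pow_ne_zero _ hζ))
  have hζb : ζ = b ^ 2 * e' := by
    rw [hb, he']; field_simp; ring
  set z : GL (OIdx m) F := scalarUnit (OIdx m) F (Units.mk0 b hb0) with hz
  refine ⟨P * z, fun u hu => ?_, subfieldSubgroup_scalar P (scalarUnit_mem _)⟩
  rw [Units.val_mul, hz, scalarUnit_coe, ← Matrix.mulVec_mulVec, smul_mulVec', Matrix.mulVec_smul,
    quad_smul, quad_eq_half h2, orData_form]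
  have e := hrat u u hu hu
  show b ^ 2 * ((2 : F)⁻¹ * _) ∈ F₀
  rw [show b ^ 2 * ((2 : F)⁻¹ * QuadraticMap.polar (Cfsg.quadFormOdd m F) (Pm *ᵥ u) (Pm *ᵥ u)) =
    (2 : F)⁻¹ * (e'⁻¹ * (ζ * QuadraticMap.polar (Cfsg.quadFormOdd m F) (Pm *ᵥ u) (Pm *ᵥ u))) by
    rw [hζb]; field_simp]
  exact mul_mem (inv_mem (natCast_mem F₀ 2)) (mul_mem (inv_mem he'F) e)

include h2 in
lemma inOrClass_of_rational {F₀ : Subfield F} {r : ℕ} {P : GL (OIdx m) F} {ζ : F} (hr : r.Prime)
    (hcard : Fintype.card F = Nat.card F₀ ^ r) (hζ : ζ ≠ 0)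
    (hrat : IsFormRationalStructure (QuadraticMap.polar (Cfsg.quadFormOdd m F)) F₀ ζ P)
    (hle : H ≤ subfieldSubgroup F₀ P) : InOrClass (m := m) H := by
  obtain ⟨P', hP', he⟩ := exists_quadRational h2 hζ hrat
  exact ⟨_, Or.inr (Or.inr (Or.inr (Or.inr (Or.inr (Or.inr (Or.inl ⟨F₀, r, P', hr, hcard, hP', rfl⟩)))))),
    hle.trans he.ge⟩

/-! ### Decompositions -/

include h2 in
/-- An irreducible group of isometries fixing an orthogonal decomposition puts it in a class. -/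
lemma inOrClass_decomposition (hH : H ≤ Cfsg.isometryGroup F (Cfsg.quadFormOdd m F)) (hirr : Irred H)
    (h : (orData h2 m).HasNondegDecomposition H) : InOrClass (m := m) H := by
  classical
  obtain ⟨t, k, E, hE, hle⟩ := h
  rw [orData_form] at hE
  choose π hπ using fun g : H => hle g.2
  have ht : 2 ≤ t := hE.decomp.two_le
  set i₀ : Fin t := ⟨0, by omega⟩
  have hmap : ∀ (g : H) (i : Fin t) (v : OIdx m → F), v ∈ E i →
      ((g : GL (OIdx m) F) : Matrix _ _ F) *ᵥ v ∈ E (π g i) := fun g i v hv => by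
    rw [← hπ g i, ← Matrix.toLin'_apply]
    exact Submodule.mem_map_of_mem hv
  have hne : ∀ i, E i ≠ ⊥ := fun i h => by
    have := hE.decomp.finrank_eq i
    rw [h, finrank_bot] at this
    have := hE.decomp.pos
    omega
  -- transitivity
  have htrans : ∀ j, ∃ g : H, π g i₀ = j := by
    let S : Set (Fin t) := {j | ∃ g : H, π g i₀ = j}
    let W : Submodule F (OIdx m → F) := ⨆ j ∈ S, E j
    have hW : ∀ g ∈ H, ∀ v ∈ W, (g : Matrix _ _ F) *ᵥ v ∈ W := by
      intro g hg v hv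
      have hle' : W ≤ W.comap (Matrix.toLin' (g : Matrix (OIdx m) (OIdx m) F)) := by
        refine iSup₂_le fun j hj w hw => ?_
        obtain ⟨g', rfl⟩ := hj
        refine Submodule.mem_comap.2 ?_
        rw [Matrix.toLin'_apply]
        have hmem := hmap ⟨g, hg⟩ _ _ hw
        refine Submodule.mem_iSup_of_mem (π ⟨g, hg⟩ (π g' i₀)) (Submodule.mem_iSup_of_mem ⟨⟨g, hg⟩ * g', ?_⟩ hmem)
        by_contra hne'
        have h1 := hπ (⟨g, hg⟩ * g') i₀
        rw [show (((⟨g, hg⟩ * g' : H) : GL (OIdx m) F) : Matrix (OIdx m) (OIdx m) F) =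
          (g : Matrix _ _ F) * ((g' : GL (OIdx m) F) : Matrix _ _ F) from Units.val_mul _ _,
          Matrix.toLin'_mul, Submodule.map_comp, hπ g' i₀, hπ ⟨g, hg⟩] at h1
        have hd := hE.decomp.indep.pairwiseDisjoint hne'
        rw [Function.onFun, ← h1, disjoint_self] at hd
        exact hne _ hd
      exact hle' hv
    intro j
    by_contra hj
    obtain ⟨v, hv, hv0⟩ := Submodule.exists_mem_ne_zero_of_ne_bot (hne (π 1 i₀))
    have htop : W = ⊤ := hirr.eq_top hW (Submodule.mem_iSup_of_mem (π 1 i₀) (Submodule.mem_iSup_of_mem ⟨1, rfl⟩ hv)) hv0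
    have hd := hE.decomp.indep j
    have hsub : W ≤ ⨆ l, ⨆ (_ : l ≠ j), E l := iSup₂_le fun l hl =>
      le_iSup₂_of_le l (fun e => hj (e ▸ hl)) le_rfl
    rw [htop, top_le_iff] at hsub
    rw [hsub, disjoint_top] at hd
    exact hne j hd
  have hiso : ∀ i j, AreIsometricFor (Cfsg.quadFormOdd m F) (E i) (E j) := by
    intro i j
    obtain ⟨g₁, rfl⟩ := htrans i
    obtain ⟨g₂, rfl⟩ := htrans j
    let e : (OIdx m → F) ≃ₗ[F] (OIdx m → F) :=
      Matrix.GeneralLinearGroup.toLin ((g₂ * g₁⁻¹ : H) : GL (OIdx m) F) |>.toLinearEquiv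
    have he : ∀ v, e v = (((g₂ * g₁⁻¹ : H) : GL (OIdx m) F) : Matrix _ _ F) *ᵥ v := fun v => rfl
    have hEe : (E (π g₁ i₀)).map e.toLinearMap = E (π g₂ i₀) := by
      rw [← hπ g₁ i₀, ← hπ g₂ i₀, ← Submodule.map_comp]
      congr 1
      refine LinearMap.ext fun v => ?_
      simp only [LinearMap.comp_apply, LinearEquiv.coe_coe, he, Matrix.toLin'_apply, Matrix.mulVec_mulVec,
        ← Units.val_mul]
      rw [← Subgroup.coe_mul, inv_mul_cancel_right]
    refine ⟨e.ofSubmodules _ _ hEe, fun w => ?_⟩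
    rw [LinearEquiv.ofSubmodules_apply, he]
    exact mem_oIso.1 (hH (g₂ * g₁⁻¹ : H).2) _
  have hD : IsOrthogonalMDecomposition (Cfsg.quadFormOdd m F) k E := ⟨hE, hiso⟩
  rcases Nat.lt_or_ge 1 k with hk | hk
  · exact ⟨_, Or.inr (Or.inr (Or.inl ⟨t, k, E, hk, hD, rfl⟩)), hle⟩
  obtain rfl : k = 1 := by have := hE.decomp.pos; omega
  by_cases hp : (Fintype.card F).Prime
  · exact ⟨_, Or.inr (Or.inr (Or.inr (Or.inl ⟨t, E, hp, hD, rfl⟩))), hle⟩
  -- monomial matrices with entries zero and signs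
  obtain ⟨v0, hv0, hv00⟩ := Submodule.exists_mem_ne_zero_of_ne_bot (hne i₀)
  choose g hg using htrans
  let v : Fin t → OIdx m → F := fun j => ((g j : GL (OIdx m) F) : Matrix _ _ F) *ᵥ v0
  have hvE : ∀ j, v j ∈ E j := fun j => by
    have := hmap (g j) _ _ hv0
    rwa [hg j] at this
  have hQv : ∀ j, Cfsg.quadFormOdd m F (v j) = Cfsg.quadFormOdd m F v0 := fun j => mem_oIso.1 (hH (g j).2) v0
  have hline : ∀ j, ∀ x ∈ E j, ∃ c : F, x = c • v j := by
    intro j x hx
    have hvj : v j ≠ 0 := fun e => hv00 (by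
      have := congrArg (((g j : GL (OIdx m) F)⁻¹ : GL (OIdx m) F).val *ᵥ ·) e
      simpa [v, Matrix.mulVec_mulVec, ← Units.val_mul] using this)
    have hEj : E j = Submodule.span F {v j} := by
      refine (Submodule.eq_of_le_of_finrank_le ((Submodule.span_singleton_le_iff_mem _ _).2 (hvE j)) ?_).symm
      rw [hE.decomp.finrank_eq, finrank_span_singleton hvj]
    rw [hEj, Submodule.mem_span_singleton] at hx
    exact hx.imp fun c hc => hc.symm
  have hQ0 : Cfsg.quadFormOdd m F v0 ≠ 0 := by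
    intro e
    obtain ⟨x, hx, hxv⟩ := (hE.nondegenerate i₀ v0 hv0 hv00).1
    obtain ⟨c, rfl⟩ := hline i₀ x hx
    obtain ⟨d, hd⟩ := hline i₀ v0 hv0
    rw [← orData_form h2, FormData.form_smul_left, hd, FormData.form_smul_right, orData_self, hQv, e] at hxv
    simp at hxv
  have hcardt : Fintype.card (OIdx m) = t := by
    have := card_eq_of_decomposition hE.decomp
    omega
  let e : OIdx m ≃ Fin t := Fintype.equivFinOfCardEq hcardt
  have hli : LinearIndependent F v := by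
    refine hE.decomp.indep.linearIndependent E hvE fun j e' => hQ0 ?_
    rw [← hQv j, e', ← zero_smul F (0 : OIdx m → F), quad_smul, zero_pow two_ne_zero, zero_mul]
  set Pm : Matrix (OIdx m) (OIdx m) F := Matrix.of fun x i => v (e i) x with hPm
  have hPu : IsUnit Pm := Matrix.linearIndependent_cols_iff_isUnit.1 (hli.comp e e.injective)
  set P : GL (OIdx m) F := hPu.unit with hP
  have hsigned : ∀ h ∈ H, h ∈ subfieldSubgroup ((⊥ : Subfield F)) P := by
    intro h hh
    have hc : ∀ j, ∃ c : F, (c = 1 ∨ c = -1) ∧ (h : Matrix _ _ F) *ᵥ v j = c • v (π ⟨h, hh⟩ j) := by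
      intro j
      obtain ⟨c, hc⟩ := hline _ _ (hmap ⟨h, hh⟩ j _ (hvE j))
      refine ⟨c, ?_, hc⟩
      have h1 := mem_oIso.1 (hH hh) (v j)
      rw [show (h : Matrix _ _ F) *ᵥ v j = c • v (π ⟨h, hh⟩ j) from hc, quad_smul, hQv, hQv] at h1
      exact sq_eq_one_iff.1 ((mul_eq_right₀ hQ0).1 h1)
    choose c hc1 hc2 using hc
    refine mem_subfieldSubgroup_of_mul_eq
      (Matrix.of fun i j => if e i = π ⟨h, hh⟩ (e j) then c (e j) else 0) (fun i j => ?_) ?_
    · simp only [Matrix.of_apply]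
      split_ifs
      · rcases hc1 (e j) with h' | h' <;> rw [h']
        · exact one_mem _
        · exact neg_mem (one_mem _)
      · exact zero_mem _
    · ext x j
      show ((h : Matrix _ _ F) *ᵥ v (e j)) x = _
      rw [hc2, Matrix.mul_apply, Finset.sum_eq_single (e.symm (π ⟨h, hh⟩ (e j))) ?_ (by simp)]
      · simp [hP, hPm, mul_comm]
      · intro l _ hl
        rw [Matrix.of_apply, if_neg (fun h' => hl (by rw [← h', Equiv.symm_apply_apply])), mul_zero]
  obtain ⟨F₁, r, hle', hr, hcard, -⟩ := exists_prime_index_subfield (⊥ : Subfield F) (fun htop => hp (by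
    haveI : Fact (ringChar F).Prime := ⟨CharP.char_is_prime F _⟩
    have hcard : Nat.card (⊥ : Subfield F) = ringChar F := Subfield.card_bot F _
    rw [htop, Nat.card_congr Subfield.topEquiv.toEquiv, Nat.card_eq_fintype_card] at hcard
    rw [hcard]
    exact CharP.char_is_prime F _))
  have hle1 : H ≤ subfieldSubgroup F₁ P := fun h hh => by
    obtain ⟨x, hx, rfl⟩ := hsigned h hh
    refine Subgroup.mem_map.2 ⟨x, SetLike.le_def.1 (sup_le_sup_right ?_ _) hx, rfl⟩
    rintro _ ⟨x₀, rfl⟩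
    exact ⟨Matrix.GeneralLinearGroup.map (Subfield.inclusion hle') x₀, Units.ext (by ext i j; rfl)⟩
  refine inOrClass_of_rational h2 hr hcard (ζ := (2 * Cfsg.quadFormOdd m F v0)⁻¹)
    (inv_ne_zero (mul_ne_zero h2 hQ0)) (fun u w hu hw => ?_) hle1
  rw [orGram_spec, sesqForm_mulVec, show (P : Matrix (OIdx m) (OIdx m) F).map (RingHom.id F) =
    (P : Matrix (OIdx m) (OIdx m) F) from Matrix.map_id _,
    show (P : Matrix (OIdx m) (OIdx m) F)ᵀ * orGram m F * (P : Matrix (OIdx m) (OIdx m) F) =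
      (2 * Cfsg.quadFormOdd m F v0) • 1 by
    ext i j
    rw [show (P : Matrix (OIdx m) (OIdx m) F) = Pm from rfl]
    have e1 : (Pmᵀ * orGram m F * Pm) i j = (orData h2 m).form (v (e i)) (v (e j)) := by
      rw [mul_assoc]; rfl
    rw [e1]
    by_cases hij : i = j
    · subst hij; rw [orData_self, hQv]; simp
    · rw [orData_form, hE.orthogonal _ _ (fun h' => hij (e.injective h')) _ (hvE _) _ (hvE _)]
      simp [hij]]
  rw [sesqForm_smul, ← mul_assoc, inv_mul_cancel₀ (mul_ne_zero h2 hQ0), one_mul]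
  show u ⬝ᵥ (1 : Matrix (OIdx m) (OIdx m) F) *ᵥ (RingHom.id F ∘ w) ∈ F₁
  rw [Matrix.one_mulVec]
  exact sum_mem fun i _ => mul_mem (hu i) (hw i)

end Cfsg.Agent.Aschbacher
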