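/-
Fields of matrices normalised by an irreducible group of isometries in odd dimension.
-/
import Mathlib
import Cfsg.Agent.Aschbacher.Or.Base

set_option autoImplicit false
set_option linter.style.haveILetI false

namespace Cfsg.Agent.Aschbacher

open Matrix
open Cfsg.Geo

section General

variable {ι : Type} [Fintype ι] [DecidableEq ι] [Nonempty ι] {F : Type*} [Field F] [Fintype F]

/-- In odd dimension the adjoint fixes every field of matrices that is closed under it. -/
lemma adj_eq_self_of_field (D : FormData ι F) (hτ : D.τ = RingEquiv.refl F) (hodd : Odd (Fintype.card ι))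
    (Z : Subalgebra F (Matrix ι ι F)) (hcomm : ∀ x ∈ Z, ∀ y ∈ Z, x * y = y * x)
    (hinv : ∀ x ∈ Z, x ≠ 0 → ∃ y ∈ Z, x * y = 1) (hadj : ∀ x ∈ Z, D.adj x ∈ Z)
    {z : Matrix ι ι F} (hz : z ∈ Z) : D.adj z = z := by
  classical
  have hF : IsField Z :=
    { exists_pair_ne := ⟨0, 1, zero_ne_one⟩
      mul_comm := fun a b => Subtype.ext (hcomm a a.2 b b.2)
      mul_inv_cancel := fun {a} ha => by
        obtain ⟨y, hy, h⟩ := hinv a a.2 fun h => ha (Subtype.ext h)
        exact ⟨⟨y, hy⟩, Subtype.ext h⟩ }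
  letI : Field Z := hF.toField
  haveI : Finite Z := inferInstance
  haveI : Module.Finite F Z := Module.Finite.of_finite
  have hd : Odd (Module.finrank F Z) := by
    have h1 := Module.finrank_mul_finrank F Z (Matrix ι ι F)
    rw [Module.finrank_matrix, Module.finrank_self, mul_one] at h1
    exact Nat.Odd.of_mul_left (h1 ▸ hodd.mul hodd)
  let f : Z →ₐ[F] Z :=
    { toFun := fun x => ⟨D.adj x, hadj x x.2⟩
      map_one' := Subtype.ext D.adj_one
      map_mul' := fun x y => Subtype.ext (by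
        show D.adj ((x : Matrix ι ι F) * y) = D.adj x * D.adj y
        rw [D.adj_mul]
        exact hcomm _ (hadj y y.2) _ (hadj x x.2))
      map_zero' := Subtype.ext D.adj_zero
      map_add' := fun x y => Subtype.ext (D.adj_add _ _)
      commutes' := fun c => Subtype.ext (by
        show D.adj (algebraMap F (Matrix ι ι F) c) = algebraMap F (Matrix ι ι F) c
        rw [Algebra.algebraMap_eq_smul_one, D.adj_scalar, hτ]
        rfl) }
  have hff : ∀ x, f (f x) = x := fun x => Subtype.ext (D.adj_adj _)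
  let σ : Z ≃ₐ[F] Z := AlgEquiv.ofBijective f ⟨fun a b h => by rw [← hff a, h, hff], fun b => ⟨f b, hff b⟩⟩
  have hσ2 : σ ^ 2 = 1 := AlgEquiv.ext fun x => by rw [sq]; exact hff x
  have h2 : orderOf σ ∣ 2 := orderOf_dvd_of_pow_eq_one hσ2
  have h3 : orderOf σ ∣ Module.finrank F Z := IsGalois.card_aut_eq_finrank F Z ▸ orderOf_dvd_natCard σ
  have h4 : σ = 1 := by
    rcases (Nat.dvd_prime Nat.prime_two).1 h2 with h | h
    · exact orderOf_eq_one_iff.1 h
    · exfalso
      rw [h] at h3
      exact Nat.not_even_iff_odd.2 hd (even_iff_two_dvd.2 h3)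
  exact congrArg (fun y : Z => (y : Matrix ι ι F)) (AlgEquiv.congr_fun h4 ⟨z, hz⟩)

/-- An abelian group of isometries is not irreducible in odd dimension greater than one. -/
lemma not_irred_of_comm_isometries (D : FormData ι F) (hτ : D.τ = RingEquiv.refl F)
    (hodd : Odd (Fintype.card ι)) (h1 : 1 < Fintype.card ι) {H : Subgroup (GL ι F)}
    (hiso : ∀ g ∈ H, ∀ u v, D.form ((g : Matrix ι ι F) *ᵥ u) ((g : Matrix ι ι F) *ᵥ v) = D.form u v)
    (hcomm : ∀ g ∈ H, ∀ h ∈ H, g * h = h * g) : ¬ Irred H := by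
  classical
  intro hirr
  set A := Algebra.adjoin F (matrixSet H) with hA
  have hcS : ∀ g ∈ H, ∀ x ∈ A, (g : Matrix ι ι F) * x = x * (g : Matrix ι ι F) := by
    intro g hg x hx
    induction hx using Algebra.adjoin_induction with
    | mem y hy =>
      obtain ⟨h, hh, rfl⟩ := hy
      exact congrArg Units.val (hcomm g hg h hh)
    | algebraMap c => exact (Algebra.commutes c _).symm
    | add y w _ _ hy hw => rw [mul_add, add_mul, hy, hw]
    | mul y w _ _ hy hw => rw [← mul_assoc, hy, mul_assoc, hw, mul_assoc]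
  have hAcomm : ∀ x ∈ A, ∀ y ∈ A, x * y = y * x := by
    intro x hx y hy
    induction hx using Algebra.adjoin_induction with
    | mem w hw =>
      obtain ⟨g, hg, rfl⟩ := hw
      exact hcS g hg y hy
    | algebraMap c => exact Algebra.commutes c _
    | add w w' _ _ hw hw' => rw [mul_add, add_mul, hw, hw']
    | mul w w' _ _ hw hw' => rw [mul_assoc, hw', ← mul_assoc, hw, mul_assoc]
  have hinjA : ∀ x ∈ A, x ≠ 0 → ∀ v, x *ᵥ v = 0 → v = 0 := by
    intro x hx hx0 v hv
    by_contra hv0
    have h : LinearMap.ker (Matrix.toLin' x) = ⊤ := hirr.eq_top (fun g hg w hw => by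
      rw [LinearMap.mem_ker, Matrix.toLin'_apply] at hw ⊢
      rw [Matrix.mulVec_mulVec, ← hcS g hg x hx, ← Matrix.mulVec_mulVec, hw, Matrix.mulVec_zero])
      (LinearMap.mem_ker.2 (by rwa [Matrix.toLin'_apply])) hv0
    exact hx0 ((map_eq_zero_iff _ (Matrix.toLin' (R := F)).injective).1 (LinearMap.ker_eq_top.1 h))
  have hAinv : ∀ x ∈ A, x ≠ 0 → ∃ y ∈ A, x * y = 1 := by
    intro x hx hx0
    let μ : A → A := fun y => ⟨x, hx⟩ * y
    have hμ : Function.Injective μ := by
      intro a b hab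
      have h : x * ((a : Matrix ι ι F) - b) = 0 := by
        rw [mul_sub, sub_eq_zero]; exact congrArg Subtype.val hab
      refine Subtype.ext (sub_eq_zero.1 (Matrix.ext_iff_mulVec.2 fun v => ?_))
      rw [Matrix.zero_mulVec]
      refine hinjA x hx hx0 _ ?_
      rw [Matrix.mulVec_mulVec, h, Matrix.zero_mulVec]
    obtain ⟨y, hy⟩ := (Finite.injective_iff_surjective.1 hμ) 1
    exact ⟨y, y.2, congrArg Subtype.val hy⟩
  have hAadj : ∀ x ∈ A, D.adj x ∈ A := fun x hx =>
    D.adj_mem_adjoin (fun g hg => ⟨1, fun u v => by rw [Units.val_one, one_mul]; exact hiso g hg u v⟩) hx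
  -- every element is a sign
  obtain ⟨i₀⟩ := ‹Nonempty ι›
  let W : Submodule F (ι → F) := Submodule.span F {Pi.single i₀ 1}
  have hne : (Pi.single i₀ (1 : F) : ι → F) ≠ 0 := fun h => by simpa using congrFun h i₀
  have hW : W = ⊤ := hirr.eq_top (fun g hg v hv => by
    have hgA : (g : Matrix ι ι F) ∈ A := Algebra.subset_adjoin (mem_matrixSet hg)
    have hsq : (g : Matrix ι ι F) * (g : Matrix ι ι F) = 1 := by
      have h : (g : Matrix ι ι F) = ((g⁻¹ : GL ι F) : Matrix ι ι F) := by
        rw [← adj_eq_self_of_field D hτ hodd A hAcomm hAinv hAadj hgA]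
        refine (D.eq_adj fun u v => ?_).symm
        rw [← hiso g hg u, Matrix.mulVec_mulVec, Units.mul_inv, Matrix.one_mulVec]
      conv_lhs => arg 2; rw [h]
      exact Units.mul_inv g
    have hprod : ((g : Matrix ι ι F) - 1) * ((g : Matrix ι ι F) + 1) = 0 := by
      rw [sub_mul, mul_add, hsq, mul_one, one_mul, add_comm, sub_self]
    have hscal : ∃ c : F, (g : Matrix ι ι F) = c • 1 := by
      by_cases h : (g : Matrix ι ι F) - 1 = 0
      · exact ⟨1, by rw [one_smul, sub_eq_zero.1 h]⟩
      refine ⟨-1, ?_⟩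
      rw [neg_one_smul, eq_neg_iff_add_eq_zero]
      refine Matrix.ext_iff_mulVec.2 fun u => ?_
      rw [Matrix.zero_mulVec]
      refine hinjA _ (sub_mem hgA (one_mem _)) h _ ?_
      rw [Matrix.mulVec_mulVec, hprod, Matrix.zero_mulVec]
    obtain ⟨c, hc⟩ := hscal
    rw [hc, smul_mulVec']
    exact W.smul_mem _ hv) (Submodule.mem_span_singleton_self _) hne
  have h' : Module.finrank F W = 1 := finrank_span_singleton hne
  rw [hW, finrank_top, Module.finrank_fintype_fun_eq_card] at h'
  omega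

/-- No irreducible group of isometries normalises a self-adjoint field of the full degree in odd
dimension. -/
lemma false_of_full_field (D : FormData ι F) (hτ : D.τ = RingEquiv.refl F) (h2 : (2 : F) ≠ 0)
    (hodd : Odd (Fintype.card ι)) (h1 : 1 < Fintype.card ι) {H : Subgroup (GL ι F)}
    (hiso : ∀ g ∈ H, ∀ u v, D.form ((g : Matrix ι ι F) *ᵥ u) ((g : Matrix ι ι F) *ᵥ v) = D.form u v)
    (hirr : Irred H) (K : Subalgebra F (Matrix ι ι F)) (hK : IsFieldSubalgebra (Fintype.card ι) K)
    (hsa : ∀ k ∈ K, D.adj k = k) (hconj : ∀ g ∈ H, ∀ k ∈ K, conjMat g k ∈ K) : False := by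
  classical
  -- the centraliser of the field is the field
  obtain ⟨v0, hv0⟩ := exists_ne (0 : ι → F)
  have hinjK : ∀ k ∈ K, k *ᵥ v0 = 0 → k = 0 := by
    intro k hk h
    by_contra hk0
    obtain ⟨y, hy, hky⟩ := hK.inv k hk hk0
    apply hv0
    rw [← Matrix.one_mulVec v0, ← hky, hK.comm k hk y hy, ← Matrix.mulVec_mulVec, h, Matrix.mulVec_zero]
  let L : K →ₗ[F] (ι → F) :=
    { toFun := fun k => (k : Matrix ι ι F) *ᵥ v0
      map_add' := fun a b => Matrix.add_mulVec _ _ _
      map_smul' := fun c a => Matrix.smul_mulVec c _ _ }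
  have hLinj : Function.Injective L := fun a b h => by
    refine Subtype.ext (sub_eq_zero.1 (hinjK _ (sub_mem a.2 b.2) ?_))
    rw [Matrix.sub_mulVec, sub_eq_zero]
    exact h
  have hLsurj : Function.Surjective L :=
    (LinearMap.injective_iff_surjective_of_finrank_eq_finrank
      (by rw [hK.finrank_eq, Module.finrank_fintype_fun_eq_card])).1 hLinj
  have hcent : ∀ M : Matrix ι ι F, (∀ k ∈ K, M * k = k * M) → M ∈ K := by
    intro M hM
    obtain ⟨k, hk⟩ := hLsurj (M *ᵥ v0)
    have hk' : (k : Matrix ι ι F) *ᵥ v0 = M *ᵥ v0 := hk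
    suffices M = k from this ▸ k.2
    refine Matrix.ext_iff_mulVec.2 fun v => ?_
    obtain ⟨k', rfl⟩ := hLsurj v
    show M *ᵥ ((k' : Matrix ι ι F) *ᵥ v0) = (k : Matrix ι ι F) *ᵥ ((k' : Matrix ι ι F) *ᵥ v0)
    rw [Matrix.mulVec_mulVec, hM _ k'.2, ← Matrix.mulVec_mulVec, ← hk', Matrix.mulVec_mulVec,
      hK.comm _ k'.2 _ k.2, ← Matrix.mulVec_mulVec]
  -- the automorphisms induced
  have hF : IsField K :=
    { exists_pair_ne := ⟨0, 1, zero_ne_one⟩
      mul_comm := fun a b => Subtype.ext (hK.comm a a.2 b b.2)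
      mul_inv_cancel := fun {a} ha => by
        obtain ⟨y, hy, h⟩ := hK.inv a a.2 fun h => ha (Subtype.ext h)
        exact ⟨⟨y, hy⟩, Subtype.ext h⟩ }
  letI : Field K := hF.toField
  haveI : Finite K := inferInstance
  let φ : H → (K ≃ₐ[F] K) := fun g =>
    AlgEquiv.ofBijective (((conjMat (g : GL ι F)).toAlgHom.comp K.val).codRestrict K fun k => hconj g g.2 k k.2)
      (Finite.injective_iff_bijective.1 fun a b h =>
        Subtype.ext ((conjMat (g : GL ι F)).injective (congrArg Subtype.val h)))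
  have hφ : ∀ (g : H) (k : K), ((φ g k : K) : Matrix ι ι F) = conjMat (g : GL ι F) k := fun g k => rfl
  have hcommK : ∀ (g h : H) (k : K), conjMat ((g : GL ι F) * (h : GL ι F)) (k : Matrix ι ι F) =
      conjMat ((h : GL ι F) * (g : GL ι F)) (k : Matrix ι ι F) := by
    intro g h k
    rw [conjMat_mul, conjMat_mul, ← hφ h k, ← hφ g, ← hφ g k, ← hφ h]
    exact congrArg (fun y : K => (y : Matrix ι ι F)) (AlgEquiv.congr_fun (mul_comm' (φ g) (φ h)) k)
  -- commutators centralise the field, so they are trivial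
  have hab : ∀ g ∈ H, ∀ h ∈ H, g * h = h * g := by
    intro g hg h hh
    set c := g * h * (h * g)⁻¹ with hc
    have hcH : c ∈ H := mul_mem (mul_mem hg hh) (inv_mem (mul_mem hh hg))
    have hcK : (c : Matrix ι ι F) ∈ K := hcent _ fun k hk => by
      rw [← conjMat_eq_self_iff, hc, conjMat_mul]
      obtain ⟨k', hk'⟩ : ∃ k' : K, conjMat ((h * g)⁻¹ : GL ι F) k = k' :=
        ⟨⟨_, hconj _ (inv_mem (mul_mem hh hg)) k hk⟩, rfl⟩
      rw [hk', hcommK ⟨g, hg⟩ ⟨h, hh⟩ k', ← hk', ← conjMat_mul, mul_inv_cancel]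
      simp [conjMat_apply]
    have hsq : (c : Matrix ι ι F) * (c : Matrix ι ι F) = 1 := by
      have h : (c : Matrix ι ι F) = ((c⁻¹ : GL ι F) : Matrix ι ι F) := by
        rw [← hsa _ hcK]
        refine (D.eq_adj fun u v => ?_).symm
        rw [← hiso c hcH u, Matrix.mulVec_mulVec, Units.mul_inv, Matrix.one_mulVec]
      conv_lhs => arg 2; rw [h]
      exact Units.mul_inv c
    have hcases : (c : Matrix ι ι F) = 1 ∨ (c : Matrix ι ι F) = -1 := by
      have h' : (⟨_, hcK⟩ : K) ^ 2 = 1 := by rw [sq]; exact Subtype.ext hsq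
      rcases sq_eq_one_iff.1 h' with e | e
      · exact Or.inl (congrArg Subtype.val e)
      · exact Or.inr (congrArg Subtype.val e)
    have hdet : (c : Matrix ι ι F).det = 1 := by
      show ((Matrix.GeneralLinearGroup.det c : Fˣ) : F) = 1
      rw [hc, map_mul, map_inv, map_mul, map_mul, mul_comm (Matrix.GeneralLinearGroup.det h), mul_inv_cancel,
        Units.val_one]
    rcases hcases with e | e
    · rw [← mul_inv_eq_one]; exact Units.ext e
    · exfalso
      rw [e, Matrix.det_neg, Matrix.det_one, mul_one, hodd.neg_one_pow] at hdet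
      exact h2 (by linear_combination -hdet)
  exact not_irred_of_comm_isometries D hτ hodd h1 hiso hab hirr

end General

variable {F : Type*} [Field F] [Fintype F] {m : ℕ} {H : Subgroup (GL (OIdx m) F)} (h2 : (2 : F) ≠ 0)

include h2 in
/-- A field of matrices normalised by `H` puts `H` in a class. -/
lemma inOrClass_of_field (hm : 1 ≤ m) (hH : H ≤ Cfsg.isometryGroup F (Cfsg.quadFormOdd m F))
    (hirr : Irred H) (h : (orData h2 m).HasField H) : InOrClass (m := m) H := by
  classical
  obtain ⟨Z, hcomm, hinv, hadj, hconj, z₀, hz₀, hns⟩ := h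
  set D := orData h2 m with hD
  have hodd : Odd (Fintype.card (OIdx m)) := by rw [card_oIdx]; exact odd_two_mul_add_one m
  have hsa : ∀ z ∈ Z, D.adj z = z := fun z hz =>
    adj_eq_self_of_field D (orData_τ h2) hodd Z hcomm hinv hadj hz
  obtain ⟨r, K, hr, hK, hKZ, hmem⟩ := exists_prime_subfield Z hcomm hinv hz₀ hns
  have hKconj : ∀ g ∈ H, ∀ k ∈ K, conjMat g k ∈ K := fun g hg y hy => by
    rw [hmem] at hy ⊢
    exact ⟨hconj g hg y hy.1, by rw [← map_pow, hy.2]⟩
  by_cases hrn : 2 * m + 1 = r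
  · exfalso
    refine false_of_full_field D (orData_τ h2) h2 hodd (by rw [card_oIdx]; omega)
      (fun g hg => form_of_mem_oIso h2 (hH hg)) hirr K ?_ (fun k hk => hsa k (hKZ hk)) hKconj
    rw [card_oIdx, hrn]; exact hK
  · refine ⟨_, Or.inr (Or.inr (Or.inr (Or.inr (Or.inl ⟨r, K, hr, hrn, hK, fun k hk u v => ?_, rfl⟩)))),
      fun g hg => mem_subalgebraNormalizer (hKconj g hg)⟩
    rw [← orData_form h2, FormData.form_mulVec_left, hsa k (hKZ hk)]

include h2 in
/-- The three outcomes of Clifford theory. -/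
lemma inOrClass_of_centre_cases (hm : 1 ≤ m) (hH : H ≤ Cfsg.isometryGroup F (Cfsg.quadFormOdd m F))
    (hirr : Irred H)
    (h : (orData h2 m).HasNondegDecomposition H ∨ (orData h2 m).HasSingularPair H ∨
      (orData h2 m).HasField H) : InOrClass (m := m) H := by
  rcases h with h | h | h
  · exact inOrClass_decomposition h2 hH hirr h
  · exfalso
    obtain ⟨k, E, e, hE, -⟩ := h
    have := card_eq_of_decomposition hE
    rw [card_oIdx] at this
    omega
  · exact inOrClass_of_field h2 hm hH hirr h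

end Cfsg.Agent.Aschbacher
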