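/-
Tensor decompositions of the odd-dimensional orthogonal form.
-/
import Mathlib
import Cfsg.Agent.Aschbacher.Or.Field
import Cfsg.Agent.Aschbacher.Formed.Coord
import Cfsg.Agent.Aschbacher.Sp.Tensor
import Cfsg.Agent.Aschbacher.Sp.Lists.TensorF3
import Cfsg.Agent.Aschbacher.Un.Coordinates
import Cfsg.Agent.Lib.Forms.Disc

set_option autoImplicit false
set_option linter.style.haveILetI false

namespace Cfsg.Agent.Aschbacher

open Matrix
open Cfsg.Geo
open scoped Kronecker

variable {F : Type*} [Field F]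

/-- An orthogonal frame permuted by a group gives a decomposition into the lines of the frame. -/
lemma exists_frame_decomposition {ι : Type} [Fintype ι] [DecidableEq ι] (D : FormData ι F)
    (hτ : D.τ = RingEquiv.refl F) (hι : 2 ≤ Fintype.card ι) (Q : GL ι F) {d : ι → F}
    (hQ : (Q : Matrix ι ι F)ᵀ * D.T * (Q : Matrix ι ι F) = Matrix.diagonal d) {H : Subgroup (GL ι F)}
    (hmon : ∀ g ∈ H, ∃ π : Equiv.Perm ι, ∀ i j,
      ((Q⁻¹ * g * Q : GL ι F) : Matrix ι ι F) i j ≠ 0 → i = π j) :
    ∃ E : Fin (Fintype.card ι) → Submodule F (ι → F), IsNondegenerateMDecomposition D.form 1 E ∧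
      H ≤ decompositionStabilizer E ∧
      ∀ a, ∃ i, (Q : Matrix ι ι F) *ᵥ Pi.single i 1 ≠ 0 ∧
        E a = Submodule.span F {(Q : Matrix ι ι F) *ᵥ Pi.single i 1} := by
  classical
  haveI : Nonempty ι := Fintype.card_pos_iff.1 (by omega)
  let f := Fintype.equivFin ι
  let v : ι → ι → F := fun i => (Q : Matrix ι ι F) *ᵥ Pi.single i 1
  have hform : ∀ i j, D.form (v i) (v j) = Matrix.diagonal d i j := by
    intro i j
    show sesqForm D.τ.toRingHom D.T _ _ = _
    rw [sesqForm_mulVec, sesqForm_single, show (Q : Matrix ι ι F).map D.τ.toRingHom = (Q : Matrix ι ι F) by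
      rw [hτ]; exact Matrix.map_id _, hQ]
  have hd : ∀ i, d i ≠ 0 := fun i h => by
    have h1 : IsUnit (Matrix.diagonal d).det := by
      rw [← hQ, Matrix.det_mul, Matrix.det_mul, Matrix.det_transpose]
      exact ((Matrix.GeneralLinearGroup.det Q).isUnit.mul D.isUnit).mul (Matrix.GeneralLinearGroup.det Q).isUnit
    rw [Matrix.det_diagonal] at h1
    exact h1.ne_zero (Finset.prod_eq_zero (Finset.mem_univ i) h)
  have hv0 : ∀ i, v i ≠ 0 := fun i h => hd i (by
    have := hform i i
    rwa [h, D.form_zero_left, Matrix.diagonal_apply_eq, eq_comm] at this)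
  have hli : LinearIndependent F v := by
    have : v = fun i => (Q : Matrix ι ι F).col i := funext fun i => Matrix.mulVec_single_one _ i
    rw [this]
    exact Matrix.linearIndependent_cols_iff_isUnit.2 Q.isUnit
  refine ⟨fun a => Submodule.span F {v (f.symm a)},
    ⟨⟨hι, one_pos, fun a => finrank_span_singleton (hv0 _), ?_, ?_⟩, fun a w hw hw0 => ?_, ?_⟩, ?_, ?_⟩
  · exact (hli.comp f.symm f.symm.injective).iSupIndep_span_singleton
  · rw [eq_top_iff]
    intro x _
    have hx : x = ∑ i, ((((Q⁻¹ : GL ι F) : Matrix ι ι F) *ᵥ x) i) • v i := by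
      conv_lhs => rw [← Matrix.one_mulVec x, ← Units.mul_inv Q, ← Matrix.mulVec_mulVec,
        pi_eq_sum_univ' (((Q⁻¹ : GL ι F) : Matrix ι ι F) *ᵥ x), Matrix.mulVec_sum]
      refine Finset.sum_congr rfl fun i _ => ?_
      rw [Matrix.mulVec_smul]
    rw [hx]
    exact sum_mem fun i _ => Submodule.smul_mem _ _
      (Submodule.mem_iSup_of_mem (f i) (by rw [Equiv.symm_apply_apply]; exact Submodule.mem_span_singleton_self _))
  · obtain ⟨c, rfl⟩ := Submodule.mem_span_singleton.1 hw
    have hc : c ≠ 0 := fun h => hw0 (by rw [h, zero_smul])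
    have h1 : D.form (v (f.symm a)) (v (f.symm a)) ≠ 0 := by
      rw [hform, Matrix.diagonal_apply_eq]; exact hd _
    refine ⟨⟨v (f.symm a), Submodule.mem_span_singleton_self _, ?_⟩,
      ⟨v (f.symm a), Submodule.mem_span_singleton_self _, ?_⟩⟩
    · rw [D.form_smul_right]; exact mul_ne_zero ((map_ne_zero D.τ).2 hc) h1
    · rw [D.form_smul_left]; exact mul_ne_zero hc h1
  · intro a b hab x hx y hy
    obtain ⟨c, rfl⟩ := Submodule.mem_span_singleton.1 hx
    obtain ⟨c', rfl⟩ := Submodule.mem_span_singleton.1 hy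
    rw [D.form_smul_left, D.form_smul_right, hform,
      Matrix.diagonal_apply_ne _ (fun h => hab (f.symm.injective h)), mul_zero, mul_zero]
  swap
  · exact fun a => ⟨f.symm a, hv0 _, rfl⟩
  · intro g hg
    obtain ⟨π, hπ⟩ := hmon g hg
    refine ⟨f.symm.trans (π.trans f), fun a => ?_⟩
    rw [Submodule.map_span, Set.image_singleton, Matrix.toLin'_apply]
    simp only [Equiv.trans_apply, Equiv.symm_apply_apply]
    set j := f.symm a
    set M := ((Q⁻¹ * g * Q : GL ι F) : Matrix ι ι F) with hM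
    have hgv : (g : Matrix ι ι F) *ᵥ v j = M (π j) j • v (π j) := by
      show (g : Matrix ι ι F) *ᵥ ((Q : Matrix ι ι F) *ᵥ Pi.single j 1) = M (π j) j • ((Q : Matrix ι ι F) *ᵥ _)
      have h1 : M *ᵥ Pi.single j 1 = M (π j) j • Pi.single (π j) (1 : F) := by
        funext i
        rw [Matrix.mulVec_single_one, Pi.smul_apply, smul_eq_mul]
        by_cases hi : i = π j
        · subst hi; simp
        · rw [Pi.single_eq_of_ne hi, mul_zero]
          by_contra h
          exact hi (hπ i j h)
      rw [← Matrix.mulVec_smul, ← h1, hM, Units.val_mul, Units.val_mul, Matrix.mulVec_mulVec,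
        Matrix.mulVec_mulVec, ← mul_assoc, ← mul_assoc, Units.mul_inv, one_mul]
    have hne : M (π j) j ≠ 0 := fun h => hv0 j (by
      have := congrArg (((g⁻¹ : GL ι F) : Matrix ι ι F) *ᵥ ·) hgv
      simpa [h, Matrix.mulVec_mulVec] using this)
    rw [hgv]
    exact Submodule.span_singleton_smul_eq (isUnit_iff_ne_zero.2 hne) _

/-- An orthogonal frame permuted by a group gives a decomposition. -/
lemma hasNondegDecomposition_of_frame {ι : Type} [Fintype ι] [DecidableEq ι] (D : FormData ι F)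
    (hτ : D.τ = RingEquiv.refl F) (hι : 2 ≤ Fintype.card ι) (Q : GL ι F) {d : ι → F}
    (hQ : (Q : Matrix ι ι F)ᵀ * D.T * (Q : Matrix ι ι F) = Matrix.diagonal d) {H : Subgroup (GL ι F)}
    (hmon : ∀ g ∈ H, ∃ π : Equiv.Perm ι, ∀ i j,
      ((Q⁻¹ * g * Q : GL ι F) : Matrix ι ι F) i j ≠ 0 → i = π j) :
    D.HasNondegDecomposition H :=
  let ⟨E, hE, hle, _⟩ := exists_frame_decomposition D hτ hι Q hQ hmon
  ⟨_, 1, E, hE, hle⟩

variable [Fintype F]

/-- In odd dimension symmetric invertible matrices are congruent up to a scalar. -/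
lemma exists_congr_smul_of_odd (h2 : (2 : F) ≠ 0) {k : ℕ} (hk : Odd k) {G S : Matrix (Fin k) (Fin k) F}
    (hG : IsUnit G.det) (hS : IsUnit S.det) (hGs : Gᵀ = G) (hSs : Sᵀ = S) :
    ∃ (X : GL (Fin k) F) (s : F), s ≠ 0 ∧
      (X : Matrix (Fin k) (Fin k) F)ᵀ * G * (X : Matrix (Fin k) (Fin k) F) = s • S := by
  classical
  set s := G.det * S.det with hs
  have hs0 : s ≠ 0 := mul_ne_zero hG.ne_zero hS.ne_zero
  have hsymm : ∀ {M : Matrix (Fin k) (Fin k) F}, Mᵀ = M → (Matrix.toBilin' M).IsSymm := fun {M} h => ⟨fun x y => by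
    simp only [Matrix.toBilin'_apply', RingHom.id_apply]
    rw [Matrix.dotProduct_mulVec, ← Matrix.mulVec_transpose, h, dotProduct_comm]⟩
  have hgram : ∀ M : Matrix (Fin k) (Fin k) F,
      Forms.Disc.gram (Matrix.toBilin' M) (Pi.basisFun F (Fin k)) = M := fun M => by
    ext i j; simp [Forms.Disc.gram, Matrix.toBilin'_single]
  have hSd : (s • S).det ≠ 0 := by
    rw [Matrix.det_smul]; exact mul_ne_zero (pow_ne_zero _ hs0) hS.ne_zero
  obtain ⟨e, he⟩ := Forms.Disc.exists_isometry h2 (Matrix.toBilin' (s • S))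
    (hsymm (by rw [Matrix.transpose_smul, hSs]))
    (LinearMap.BilinForm.nondegenerate_toBilin'_iff_det_ne_zero.2 hSd)
    (Matrix.toBilin' G) (hsymm hGs)
    (LinearMap.BilinForm.nondegenerate_toBilin'_iff_det_ne_zero.2 hG.ne_zero) rfl
    (Pi.basisFun F (Fin k)) (Pi.basisFun F (Fin k)) (by
      rw [hgram, hgram, Matrix.det_smul, Fintype.card_fin]
      obtain ⟨j, hj⟩ := hk
      refine ⟨s ^ (j + 1), ?_⟩
      calc s ^ k * S.det * G.det = s ^ (k + 1) := by rw [pow_succ, hs]; ring
        _ = s ^ (j + 1) * s ^ (j + 1) := by rw [← pow_add]; congr 1; omega)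
  let X : Matrix (Fin k) (Fin k) F := LinearMap.toMatrix' e.toLinearMap
  have hX : Xᵀ * G * X = s • S := by
    ext i j
    have h := he (Pi.single i 1) (Pi.single j 1)
    rw [Matrix.toBilin'_single] at h
    rw [← h, Matrix.toBilin'_apply', Matrix.mul_assoc, Matrix.mul_apply', dotProduct]
    refine Finset.sum_congr rfl fun a _ => ?_
    simp [X, LinearMap.toMatrix'_apply, Matrix.mul_apply, Matrix.mulVec, dotProduct]
  have hXd : X.det ≠ 0 := fun h => hSd (by rw [← hX, Matrix.det_mul, h, mul_zero])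
  exact ⟨Matrix.GeneralLinearGroup.mkOfDetNeZero X hXd, s, hs0, hX⟩

variable {m : ℕ} {H : Subgroup (GL (OIdx m) F)} (h2 : (2 : F) ≠ 0)

include h2 in
lemma orData_pull_isometry {κ : Type} [Fintype κ] [DecidableEq κ] (e : OIdx m ≃ κ) (P : GL (OIdx m) F)
    {g : GL (OIdx m) F} (hg : g ∈ Cfsg.isometryGroup F (Cfsg.quadFormOdd m F)) :
    (glCoord e P g : Matrix κ κ F)ᵀ * (orData h2 m).pull e P * (glCoord e P g : Matrix κ κ F) =
      (orData h2 m).pull e P := by
  have h := (orData h2 m).pull_isometry e P g (form_of_mem_oIso h2 hg)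
  rwa [show (glCoord e P g : Matrix κ κ F).map (orData h2 m).τ = (glCoord e P g : Matrix κ κ F) from
    Matrix.map_id _] at h

include h2 in
lemma orData_pull_symm {κ : Type} [Fintype κ] [DecidableEq κ] (e : OIdx m ≃ κ) (P : GL (OIdx m) F) :
    ((orData h2 m).pull e P)ᵀ = (orData h2 m).pull e P := by
  have h := (orData h2 m).pull_refl e P
  rw [show ((orData h2 m).pull e P).map (orData h2 m).τ = (orData h2 m).pull e P from Matrix.map_id _] at h
  rw [h]
  exact one_smul F _

lemma odd_card_oIdx (m : ℕ) : Odd (Fintype.card (OIdx m)) := by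
  rw [card_oIdx]; exact odd_two_mul_add_one m

include h2 in
/-- An oriented tensor decomposition with symmetric factors is a member. -/
lemma inOrClass_of_lt {a k : ℕ} (ha : 3 ≤ a) (hak : a < k) (e : OIdx m ≃ Fin a × Fin k) (P : GL (OIdx m) F)
    {G : Matrix (Fin a) (Fin a) F} {S : Matrix (Fin k) (Fin k) F} (hG : IsUnit G.det) (hS : IsUnit S.det)
    (hGs : Gᵀ = G) (hSs : Sᵀ = S) (hpull : (orData h2 m).pull e P = G ⊗ₖ S)
    (hle : H ≤ tensorProductSubgroup a k e P) : InOrClass (m := m) H := by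
  refine ⟨_, Or.inr (Or.inr (Or.inr (Or.inr (Or.inr (Or.inl
    ⟨a, k, e, P, sesqForm (RingHom.id F) G, sesqForm (RingHom.id F) S, ha, hak,
      isSymmetricForm_sesqForm hGs hG, isSymmetricForm_sesqForm hSs hS,
      ⟨1, one_ne_zero, fun x y => ?_⟩, rfl⟩))))), hle⟩
  rw [gramMatrix_sesqForm, gramMatrix_sesqForm, one_mul, formOfGram_id, ← hpull, ← orData_form h2]
  exact (orData h2 m).form_pull e P x y

include h2 in
/-- A tensor power decomposition fixed by an irreducible group of isometries puts it in a class. -/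
theorem inOrClass_of_power (hH : H ≤ Cfsg.isometryGroup F (Cfsg.quadFormOdd m F)) (hirr : Irred H)
    {t k : ℕ} (ht : 2 ≤ t) (hk : 2 ≤ k) (e : OIdx m ≃ (Fin t → Fin k)) (P : GL (OIdx m) F)
    {G : Matrix (Fin k) (Fin k) F} {c : F} (hG : IsUnit G.det) (hc : c ≠ 0)
    (hpull : (orData h2 m).pull e P = c • pureTensor (fun _ => G))
    (hle : H ≤ tensorWreathSubgroup k t e P) : InOrClass (m := m) H := by
  classical
  have hkodd : Odd k := by
    have h : Odd (k ^ t) := by
      have := Fintype.card_congr e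
      rw [Fintype.card_fun, Fintype.card_fin, Fintype.card_fin] at this
      rw [← this]; exact odd_card_oIdx m
    exact (Nat.odd_pow_iff (by omega)).1 h
  have hk3 : 3 ≤ k := by obtain ⟨j, rfl⟩ := hkodd; omega
  have hG0 : G ≠ 0 := fun h => by
    haveI : Nonempty (Fin k) := ⟨⟨0, by omega⟩⟩
    rw [h, Matrix.det_zero] at hG; exact not_isUnit_zero hG
  set i₀ : Fin t := ⟨0, by omega⟩
  have hsymm : Gᵀ = G := by
    have h := orData_pull_symm h2 e P
    rw [hpull, Matrix.transpose_smul, pureTensor_transpose] at h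
    have h1 := congrArg (c⁻¹ • ·) h
    simp only [smul_smul, inv_mul_cancel₀ hc, one_smul] at h1
    obtain ⟨α, hα⟩ := exists_smul_of_pureTensor one_ne_zero (fun _ => hG0)
      (h1.trans (one_smul F _).symm) i₀
    have hα' : Gᵀ = α • G := hα
    have hαk : α ^ k = 1 := by
      have h3 := congrArg Matrix.det hα'
      rw [Matrix.det_transpose, Matrix.det_smul, Fintype.card_fin] at h3
      exact (mul_eq_right₀ hG.ne_zero).1 h3.symm
    have hαα : α * α = 1 := by
      have h3 : G = (α * α) • G := by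
        conv_lhs => rw [← Matrix.transpose_transpose G, hα', Matrix.transpose_smul, hα', smul_smul]
      exact smul_left_injective F hG0 (h3.symm.trans (one_smul F G).symm)
    rcases mul_self_eq_one_iff.1 hαα with h3 | h3
    · rw [hα', h3, one_smul]
    · rw [h3, hkodd.neg_one_pow] at hαk
      exact absurd (by linear_combination -hαk) h2
  by_cases h33 : Fintype.card F = 3 ∧ k = 3
  swap
  · refine ⟨_, Or.inr (Or.inr (Or.inr (Or.inr (Or.inr (Or.inr (Or.inr
      ⟨k, t, e, P, sesqForm (RingHom.id F) G, hk3, ht, h33, isSymmetricForm_sesqForm hsymm hG,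
        ⟨c, hc, fun x y => ?_⟩, rfl⟩)))))), hle⟩
    rw [← orData_form h2, (orData h2 m).form_pull e P x y, hpull,
      gramMatrix_sesqForm, Matrix.smul_mulVec, dotProduct_smul, smul_eq_mul]
    congr 1
    simp [dotProduct, Matrix.mulVec, Finset.mul_sum, mul_assoc, pureTensor_apply]
    rfl
  -- three elements and factors of dimension three: a frame
  obtain ⟨hq, rfl⟩ := h33
  obtain ⟨C, s, hs, hCu, hC⟩ := exists_congr_scalar_three hq hG hsymm
  set Cu : GL (Fin 3) F := Matrix.GeneralLinearGroup.mkOfDetNeZero C hCu.ne_zero with hCudef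
  have hCcoe : (Cu : Matrix (Fin 3) (Fin 3) F) = C := rfl
  set U : GL (Fin t → Fin 3) F := pureUnit (fun _ => Cu) with hU
  set Q := P * glReindex e.symm U with hQdef
  have hpullQ : (orData h2 m).pull e Q = (c * s ^ t) • (1 : Matrix (Fin t → Fin 3) (Fin t → Fin 3) F) := by
    rw [hQdef, FormData.pull_change, hpull, show (U : Matrix (Fin t → Fin 3) (Fin t → Fin 3) F).map
      (orData h2 m).τ = (U : Matrix (Fin t → Fin 3) (Fin t → Fin 3) F) from Matrix.map_id _, hU, pureUnit_coe,
      pureTensor_transpose, Matrix.mul_smul, Matrix.smul_mul, ← map_mul, ← map_mul,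
      show ((fun _ : Fin t => (Cu : Matrix (Fin 3) (Fin 3) F)ᵀ) * fun _ => G) * (fun _ =>
        (Cu : Matrix (Fin 3) (Fin 3) F)) = fun _ => s • (1 : Matrix (Fin 3) (Fin 3) F) from
          funext fun _ => by rw [Pi.mul_apply, Pi.mul_apply, hCcoe, hC],
      pureTensor_smul, Finset.prod_const, Finset.card_univ, Fintype.card_fin, smul_smul,
      show (fun _ : Fin t => (1 : Matrix (Fin 3) (Fin 3) F)) = 1 from rfl, map_one]
  refine inOrClass_decomposition h2 hH hirr
    (hasNondegDecomposition_of_frame (orData h2 m) (orData_τ h2) (by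
      rw [Fintype.card_congr e, Fintype.card_fun, Fintype.card_fin, Fintype.card_fin]
      calc 2 ≤ 3 ^ 2 := by norm_num
        _ ≤ 3 ^ t := Nat.pow_le_pow_right (by norm_num) ht) Q (d := fun _ => c * s ^ t) ?_ ?_)
  · have h := congrArg (fun M : Matrix (Fin t → Fin 3) (Fin t → Fin 3) F => M.submatrix e e) hpullQ
    simp only [FormData.pull, Matrix.submatrix_submatrix, Equiv.symm_comp_self, Matrix.submatrix_id_id] at h
    rw [show (Q : Matrix (OIdx m) (OIdx m) F).map (orData h2 m).τ = (Q : Matrix (OIdx m) (OIdx m) F) from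
      Matrix.map_id _] at h
    rw [h, Matrix.smul_one_eq_diagonal, Matrix.submatrix_diagonal_equiv]
    rfl
  intro g hg
  obtain ⟨σ, gs, hgs⟩ := exists_monTensor_of_mem_wreath (hle hg)
  have h := orData_pull_isometry h2 e P (hH hg)
  rw [hpull, hgs, Matrix.mul_smul, Matrix.smul_mul, monTensor_congr] at h
  have h1 := congrArg (c⁻¹ • ·) h
  simp only [smul_smul, inv_mul_cancel₀ hc, one_smul] at h1
  choose d hd using fun i => exists_smul_of_pureTensor (Y := fun _ : Fin t => G) one_ne_zero
    (fun _ => hG0) (h1.trans (one_smul F _).symm) (σ i)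
  set B : Fin t → Matrix (Fin 3) (Fin 3) F := fun i =>
    ((Cu⁻¹ * gs i * Cu : GL (Fin 3) F) : Matrix (Fin 3) (Fin 3) F) with hB
  have hperm : ∀ i, ∃ ρ : Equiv.Perm (Fin 3), ∀ a b, B i a b ≠ 0 → a = ρ b := by
    intro i
    have hdi : (gs i : Matrix (Fin 3) (Fin 3) F)ᵀ * G * (gs i : Matrix (Fin 3) (Fin 3) F) = d i • G := by
      simpa using hd i
    have hCB : C * B i = (gs i : Matrix (Fin 3) (Fin 3) F) * C := by
      rw [← hCcoe, hB, ← Units.val_mul, ← Units.val_mul, mul_assoc Cu⁻¹, mul_inv_cancel_left]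
    have hBB : (B i)ᵀ * B i = d i • (1 : Matrix (Fin 3) (Fin 3) F) := by
      have h3 : (B i)ᵀ * (Cᵀ * G * C) * B i = d i • (Cᵀ * G * C) := by
        calc (B i)ᵀ * (Cᵀ * G * C) * B i = (C * B i)ᵀ * G * (C * B i) := by
              rw [Matrix.transpose_mul C (B i)]; simp only [Matrix.mul_assoc]
          _ = Cᵀ * ((gs i : Matrix (Fin 3) (Fin 3) F)ᵀ * G * gs i) * C := by
              rw [hCB, Matrix.transpose_mul]; simp only [Matrix.mul_assoc]
          _ = _ := by rw [hdi, Matrix.mul_smul, Matrix.smul_mul]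
      rw [hC, Matrix.mul_smul, mul_one, Matrix.smul_mul, smul_comm] at h3
      exact smul_right_injective _ hs h3
    have hd1 : d i = 1 := by
      have h3 := congrArg Matrix.det hBB
      rw [Matrix.det_mul, Matrix.det_transpose, Matrix.det_smul, Matrix.det_one, mul_one, Fintype.card_fin] at h3
      have hB0 : (B i).det ≠ 0 := (Matrix.GeneralLinearGroup.det (Cu⁻¹ * gs i * Cu)).ne_zero
      rw [sq_eq_one_three hq hB0] at h3
      have hd0 : d i ≠ 0 := fun h0 => one_ne_zero (α := F) (by rw [h3, h0, zero_pow three_ne_zero])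
      rw [pow_succ, sq, sq_eq_one_three hq hd0, one_mul] at h3
      exact h3.symm
    rw [hd1, one_smul] at hBB
    exact exists_perm_of_orthogonal_three hq hBB
  choose ρ hρ using hperm
  have hinj : Function.Injective (fun (y : Fin t → Fin 3) (i : Fin t) => ρ i (y (σ i))) := fun y y' hy => by
    funext j
    have := congrFun hy (σ.symm j)
    simpa using this
  let π₀ : Equiv.Perm (Fin t → Fin 3) := Equiv.ofBijective _ (Finite.injective_iff_bijective.1 hinj)
  refine ⟨(e.trans π₀).trans e.symm, fun i j hij => ?_⟩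
  have hmat : (glCoord e Q g : Matrix (Fin t → Fin 3) (Fin t → Fin 3) F) = monTensor σ B := by
    have e1 : glCoord e Q g = U⁻¹ * glCoord e P g * U := by
      have hr : ∀ x : GL (OIdx m) F, glCoord e P x = glReindex e (P⁻¹ * x * P) := fun x => rfl
      have hr' : glCoord e Q g = glReindex e (Q⁻¹ * g * Q) := rfl
      have hU' : glReindex e (glReindex e.symm U) = U := Units.ext (by
        rw [coe_glReindex, coe_glReindex, Matrix.submatrix_submatrix]; simp)
      rw [hr', hQdef, _root_.mul_inv_rev, hr,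
        show (glReindex e.symm U)⁻¹ * P⁻¹ * g * (P * glReindex e.symm U) =
          (glReindex e.symm U)⁻¹ * (P⁻¹ * g * P) * glReindex e.symm U by group,
        map_mul, map_mul, map_inv, hU']
    rw [e1, Units.val_mul, Units.val_mul, hgs, hU, ← map_inv, pureUnit_coe, pureUnit_coe, ← monTensor_one_left,
      ← monTensor_one_left, monTensor_mul, monTensor_mul]
    congr 1
  have hne : monTensor σ B (e i) (e j) ≠ 0 := by
    rw [← hmat, glCoord, coe_glReindex, Matrix.submatrix_apply, Equiv.symm_apply_apply, Equiv.symm_apply_apply]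
    exact hij
  have he : e i = π₀ (e j) := funext fun l => hρ l _ _ fun h0 => hne (by
    rw [monTensor, Matrix.of_apply]; exact Finset.prod_eq_zero (Finset.mem_univ l) h0)
  rw [Equiv.trans_apply, Equiv.trans_apply, ← he, Equiv.symm_apply_apply]

include h2 in
/-- A tensor power decomposition with adjoint-stable factors. -/
theorem inOrClass_of_factor_power (hH : H ≤ Cfsg.isometryGroup F (Cfsg.quadFormOdd m F)) (hirr : Irred H)
    {t k : ℕ} (ht : 2 ≤ t) (hk : 2 ≤ k) (e : OIdx m ≃ (Fin t → Fin k)) (P : GL (OIdx m) F)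
    (Φ : Fin t → (Matrix (Fin k) (Fin k) F →ₐ[F] Matrix (OIdx m) (OIdx m) F))
    (hΦ : ∀ i x, Φ i x = conjMat P ((slotHom i x).submatrix e e))
    (hadj : ∀ x, ∃ y, ∀ i, (orData h2 m).adj (Φ i x) = Φ i y)
    (hle : H ≤ tensorWreathSubgroup k t e P) : InOrClass (m := m) H := by
  obtain ⟨G, c, hG, hc, hpull⟩ := (orData h2 m).exists_gram_power (by omega) Φ e P hΦ hadj
  exact inOrClass_of_power h2 hH hirr ht hk e P hG hc hpull hle

include h2 in
/-- A tensor decomposition fixed by an irreducible group of isometries puts it in a class. -/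
theorem inOrClass_of_tensor (hH : H ≤ Cfsg.isometryGroup F (Cfsg.quadFormOdd m F)) (hirr : Irred H)
    {a k : ℕ} (ha : 2 ≤ a) (hk : 2 ≤ k) (e : OIdx m ≃ Fin a × Fin k) (P : GL (OIdx m) F)
    (Θ : Matrix (Fin a) (Fin a) F →ₐ[F] Matrix (OIdx m) (OIdx m) F)
    (hΘ : ∀ x, Θ x = conjMat P ((x ⊗ₖ (1 : Matrix (Fin k) (Fin k) F)).submatrix e e))
    (hadj : ∀ x, ∃ y, (orData h2 m).adj (Θ x) = Θ y)
    (hle : H ≤ tensorProductSubgroup a k e P) : InOrClass (m := m) H := by
  haveI : NeZero a := ⟨by omega⟩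
  haveI : NeZero k := ⟨by omega⟩
  have hak : Odd a ∧ Odd k := by
    have := Fintype.card_congr e
    rw [Fintype.card_prod, Fintype.card_fin, Fintype.card_fin] at this
    exact Nat.odd_mul.1 (this ▸ odd_card_oIdx m)
  have ha3 : 3 ≤ a := by obtain ⟨j, hj⟩ := hak.1; omega
  have hk3 : 3 ≤ k := by obtain ⟨j, hj⟩ := hak.2; omega
  obtain ⟨G, S, hG, hS, hpull⟩ := (orData h2 m).exists_gram_tensor Θ e P hΘ hadj
  have hsymm := orData_pull_symm h2 e P
  rw [hpull, ← Matrix.kroneckerMap_transpose] at hsymm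
  obtain ⟨c, hc0, hGc, hSc⟩ := exists_smul_of_kronecker_eq hG hS hsymm
  have hc1 : c = 1 := by
    have h1 := congrArg Matrix.det hGc
    rw [Matrix.det_transpose, Matrix.det_smul, Fintype.card_fin] at h1
    have hck : c ^ a = 1 := (mul_eq_right₀ hG.ne_zero).1 h1.symm
    have hG0 : G ≠ 0 := fun h => by rw [h, Matrix.det_zero] at hG; exact not_isUnit_zero hG
    have h3 : G = (c * c) • G := by
      conv_lhs => rw [← Matrix.transpose_transpose G, hGc, Matrix.transpose_smul, hGc, smul_smul]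
    rcases mul_self_eq_one_iff.1 (smul_left_injective F hG0 (h3.symm.trans (one_smul F G).symm)) with h | h
    · exact h
    · rw [h, hak.1.neg_one_pow] at hck
      exact absurd (by linear_combination -hck) h2
  rw [hc1, one_smul] at hGc
  rw [hc1, inv_one, one_smul] at hSc
  rcases Nat.lt_trichotomy a k with hlt | rfl | hgt
  · exact inOrClass_of_lt h2 ha3 hlt e P hG hS hGc hSc hpull hle
  swap
  · refine inOrClass_of_lt h2 hk3 hgt (e.trans (Equiv.prodComm _ _)) P hS hG hSc hGc ?_
      (hle.trans (tensorProduct_swap e P))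
    ext ⟨p, r⟩ ⟨p', r'⟩
    have h1 : (orData h2 m).pull (e.trans (Equiv.prodComm _ _)) P (p, r) (p', r') =
        (orData h2 m).pull e P (r, p) (r', p') := rfl
    rw [h1, hpull]
    simp [mul_comm]
  -- equal factors
  obtain ⟨X, s, hs, hX⟩ := exists_congr_smul_of_odd h2 hak.1 hG hS hGc hSc
  set P' := P * glReindex e.symm (kronUnit (X, (1 : GL (Fin a) F))) with hP'
  have hpull₁ : (orData h2 m).pull e P' = s • (S ⊗ₖ S) := by
    rw [hP', FormData.pull_change, hpull, show ((kronUnit (X, (1 : GL (Fin a) F)) : GL _ F) :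
      Matrix (Fin a × Fin a) (Fin a × Fin a) F).map (orData h2 m).τ = _ from Matrix.map_id _, kronUnit_coe,
      ← Matrix.kroneckerMap_transpose, ← Matrix.mul_kronecker_mul, ← Matrix.mul_kronecker_mul, hX,
      Units.val_one, Matrix.transpose_one, one_mul, mul_one, Matrix.smul_kronecker]
  set e' := e.trans (finTwoArrowEquiv (Fin a)).symm with he'
  have hle' : H ≤ tensorWreathSubgroup a 2 e' P' :=
    (hle.trans (map_conj_change _ (kronUnit_mem X 1) e P)).trans (tensorProduct_le_wreath e P')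
  refine inOrClass_of_power h2 hH hirr le_rfl ha e' P' hS hs ?_ hle'
  ext p r
  have h1 : (orData h2 m).pull e' P' p r =
      (orData h2 m).pull e P' (finTwoArrowEquiv (Fin a) p) (finTwoArrowEquiv (Fin a) r) := rfl
  rw [h1, hpull₁, Matrix.smul_apply, Matrix.smul_apply, pureTensor_apply, Fin.prod_univ_two]
  rfl

end Cfsg.Agent.Aschbacher
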