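/-
In odd dimension no minimal normal subgroup spanning all matrices is abelian modulo scalars.
-/
import Mathlib
import Cfsg.Agent.Aschbacher.Or.Base
import Cfsg.Agent.Aschbacher.Sp.Abelian

set_option autoImplicit false
set_option linter.style.haveILetI false

namespace Cfsg.Agent.Aschbacher

open Matrix
open Cfsg.Geo

variable {F : Type*} [Field F] [Fintype F] {m : ℕ}

/-- No minimal normal subgroup which is abelian modulo scalars spans all matrices. -/
theorem false_of_abelian_orth (h2 : (2 : F) ≠ 0) (hm : 1 ≤ m) {H N : Subgroup (GL (OIdx m) F)}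
    (hH : H ≤ Cfsg.isometryGroup F (Cfsg.quadFormOdd m F)) (hZN : scalars (OIdx m) F ≤ N)
    (hns : ¬ N ≤ scalars (OIdx m) F) (hNH : N ≤ H ⊔ scalars (OIdx m) F)
    (hnorm : ∀ g ∈ H, ∀ x ∈ N, g * x * g⁻¹ ∈ N)
    (htop : Algebra.adjoin F (matrixSet N) = ⊤)
    (hcomm : ∀ x ∈ N, ∀ y ∈ N, x * y * x⁻¹ * y⁻¹ ∈ scalars (OIdx m) F)
    (hmin : ∀ M : Subgroup (GL (OIdx m) F), scalars (OIdx m) F ≤ M → M ≤ N →
      (∀ g ∈ H, ∀ x ∈ M, g * x * g⁻¹ ∈ M) → M = scalars (OIdx m) F ∨ M = N) : False := by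
  classical
  set ι := OIdx m
  set D := orData h2 m with hD
  set Z := scalars ι F with hZ
  set I := Cfsg.isometryGroup F (Cfsg.quadFormOdd m F) with hI
  have hn2 : 2 ≤ Fintype.card ι := by rw [card_oIdx]; omega
  obtain ⟨r, R, hd, hRN, hdec, hpow⟩ :=
    exists_symplecticData_of_minimal hn2 hZN hns hnorm htop hcomm hmin
  have hsplit : ∀ x ∈ N, ∃ h ∈ N ⊓ I, ∃ z ∈ Z, x = h * z := by
    intro x hx
    obtain ⟨h, hh, z, hz, rfl⟩ := Subgroup.mem_sup_of_normal_right.1 (hNH hx)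
    refine ⟨h, ⟨?_, hH hh⟩, z, hz, rfl⟩
    simpa using mul_mem hx (inv_mem (hZN hz))
  have hscalI : ∀ c : Fˣ, scalarUnit ι F c ∈ I → c ^ 2 = 1 := by
    intro c hc
    obtain ⟨v, hv⟩ := exists_ne (0 : ι → F)
    obtain ⟨x, hx⟩ := (D.nondegenerate v hv).1
    have h1 := form_of_mem_oIso h2 hc x v
    rw [scalarUnit_coe, smul_mulVec', smul_mulVec', FormData.form_smul_left, FormData.form_smul_right] at h1
    apply Units.ext
    rw [Units.val_pow_eq_pow_val, Units.val_one, sq]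
    apply mul_right_cancel₀ hx
    rw [one_mul, mul_assoc]
    exact h1
  have hcI : ∀ x ∈ N, ∀ y ∈ N, x * y * x⁻¹ * y⁻¹ ∈ I := by
    intro x hx y hy
    obtain ⟨h, hh, z, hz, rfl⟩ := hsplit x hx
    obtain ⟨k, hk, w, hw, rfl⟩ := hsplit y hy
    rw [← commutatorElement_def, show h * z = z * h from scalars_comm hz h,
      show k * w = w * k from scalars_comm hw k, commutator_central (scalars_comm hz) (scalars_comm hw)]
    have hh' : h ∈ I := (Subgroup.mem_inf.1 hh).2
    have hk' : k ∈ I := (Subgroup.mem_inf.1 hk).2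
    exact mul_mem (mul_mem (mul_mem hh' hk') (inv_mem hh')) (inv_mem hk')
  obtain ⟨x₁, hx₁, y₁, hy₁, hne⟩ : ∃ x ∈ R, ∃ y ∈ R, y * x ≠ x * y := by
    by_contra hall
    push Not at hall
    have habs := absIrred_of_adjoin_eq_top hd.adjoin_top
    have hbot : Algebra.adjoin F (matrixSet R) ≤ (⊥ : Subalgebra F (Matrix ι ι F)) := by
      refine Algebra.adjoin_le ?_
      rintro _ ⟨x, hx, rfl⟩
      obtain ⟨c, hc⟩ := habs.2 (x : Matrix ι ι F) (by
        rintro _ ⟨y, hy, rfl⟩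
        exact congrArg Units.val (hall y hy x hx))
      rw [SetLike.mem_coe, Algebra.mem_bot]
      exact ⟨c, (Algebra.algebraMap_eq_smul_one c).trans hc.symm⟩
    rw [hd.adjoin_top, top_le_iff] at hbot
    have h1 : Module.finrank F (⊥ : Subalgebra F (Matrix ι ι F)) = 1 := Subalgebra.finrank_bot
    rw [hbot] at h1
    have h3 : Module.finrank F (Matrix ι ι F) = 1 := by
      rw [← h1]
      exact (Subalgebra.topEquiv.toLinearEquiv.finrank_eq).symm
    rw [Module.finrank_matrix, Module.finrank_self, mul_one] at h3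
    have := Nat.eq_one_of_mul_eq_one_right h3
    omega
  rcases hd.prime.eq_two_or_odd' with rfl | hodd
  · obtain ⟨k, hk1, hnk, -⟩ := hd.exists_m
    have h := odd_two_mul_add_one m
    rw [← card_oIdx m, hnk, Nat.odd_pow_iff (by omega)] at h
    exact (Nat.not_odd_iff_even.2 even_two) h
  · obtain ⟨ζ, hζ⟩ := mem_scalars_iff_scalarUnit.1 (hcomm y₁ (hRN hy₁) x₁ (hRN hx₁))
    have hζI : scalarUnit ι F ζ ∈ I := hζ ▸ hcI y₁ (hRN hy₁) x₁ (hRN hx₁)
    have h : y₁ * x₁ = scalarUnit ι F ζ * x₁ * y₁ := by rw [hζ]; group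
    have hexp : y₁ ^ r = 1 := by
      have h1 := Monoid.pow_exponent_eq_one (⟨y₁, hy₁⟩ : R)
      rw [hd.symplecticType.exponent_eq, Nat.coprime_iff_gcd_eq_one.1 (Nat.coprime_two_left.2 hodd),
        mul_one] at h1
      exact congrArg Subtype.val h1
    have h1 := commute_of_odd_exponent hodd hexp (fun g => scalarUnit_comm ζ g) h
      (by rw [← map_pow, hscalI ζ hζI, map_one])
    exact hne (by rw [h, h1, one_mul])

end Cfsg.Agent.Aschbacher
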